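import Cfsg.Agent.S5461
import Cfsg.Agent.Mont.C3B
import Cfsg.Agent.Mon.LXS
import Cfsg.Agent.Mon.Loc
import Cfsg.Agent.F24.Ext
import Cfsg.Agent.F24.TopT
import Cfsg.Agent.Inv.Count

/-! An element of order 3 centralising `z`, a second `2B` element and a `2A` element of `Q` has
normaliser `3.Fi₂₄`. -/

set_option autoImplicit false

namespace Cfsg.Agent.MonY

open Cfsg Cfsg.Spor Cfsg.Agent.Spor Cfsg.Agent.Spor.Leech Cfsg.Agent.Mon Subgroup
open scoped commutatorElement

section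
open Cfsg.Agent.Mont Cfsg.Agent.Comp Cfsg.Agent.Spor.M24C Cfsg.Agent.LES Cfsg.Agent.LES.Co
open scoped Pointwise

/-- representatives of the fixed classes that are not of type 4 -/
noncomputable def c3Reps : List (ℕ × List ℤ) :=
  [(0, [0, 0, 0, 0, 0, 0, 0, 0, 0, 0, 0, 0, 0, 0, 0, 0, 0, 0, 0, 0, 0, 0, 0, 0]),
   (2, [-1, -1, -1, -1, -1, -1, -2, -2, -1, -2, -2, 3, 4, 2, 5, 4, 4, 3, 4, 4, 4, 4, 4, -18])]

theorem c3Reps_ok : and' (allL c3Reps fun e => and' (chkPtv 256 C3B.P e.2 e.1)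
      (Bool.or (eqZ (ipZ e.2 e.2) 0) (eqZ (ipZ e.2 e.2) 6)))
    (Nat.beq (Nat.lor C3B.D4 (grow C3B.ns C3B.G_ss0 7 (orL c3Reps fun e => Nat.shiftLeft 1 e.1)))
      (ones 256)) = true := by decide +kernel

/-- An element of shape `3^8` fixes no class of type 2. -/
theorem c3_cases {S : Set leechLattice} (hS : S ∈ Fx (permHom (mc x2))) :
    S ∈ T4 ∨ ∃ v : leechLattice, S = cls 0 v ∧
      (sqNorm (v : GolayPt → ℤ) = 0 ∨ sqNorm (v : GolayPt → ℤ) = 48) := by
  rw [C3B.hF.1] at hS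
  obtain ⟨i, hi, rfl⟩ := hS
  by_cases hD : C3B.D4.testBit i = true
  · exact Or.inl ((C3B.hT i hi).2 hD)
  right
  have h := c3Reps_ok
  simp only [and'_eq_true, allL_iff, beq_iff, eqZ_iff, Bool.or_eq_true] at h
  obtain ⟨h2, h4⟩ := h
  have b1 := congrArg (·.testBit i) h4
  change (C3B.D4 ||| _).testBit i = _ at b1
  rw [Nat.testBit_or, testBit_ones, Bool.eq_false_iff.2 hD, Bool.false_or,
    decide_eq_true (show i < 256 from hi)] at b1
  obtain ⟨j, -, hj, g, hg, rfl⟩ := reach_grow C3B.ctx.ok (fun u hu => wp_mem_gen C3B.ns hu) 7 _ i hi b1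
  obtain ⟨e, he, d⟩ := (testBit_orL _ _ _).1 hj
  have e1 : Nat.shiftLeft 1 e.1 = 2 ^ e.1 := Nat.one_shiftLeft _
  rw [e1, Nat.testBit_two_pow] at d
  obtain rfl := of_decide_eq_true d
  obtain ⟨g', -, hg'⟩ := C3B.reps.of_mem hg
  have hlt : e.1 < 256 := by
    simp only [c3Reps, List.mem_cons, List.not_mem_nil, or_false] at he
    rcases he with rfl | rfl <;> norm_num
  refine ⟨g' • emb (toF e.2), ?_, ?_⟩
  · rw [← hg'.2 _ hlt, lpt_eq_of_chkPtv [] (h2 e he).1, emb_nil, smul_cls0]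
  · rw [sqNorm_smul, sqNorm_emb_toF]
    rcases (h2 e he).2 with a | a <;> rw [a] <;> simp

end

variable {G : Type} [Group G] [Finite G] {z : G} {Q : Subgroup G}
  {π : centralizer ({z} : Set G) →* Co1} {ψ : leechLattice → G} {m : G}

/-- `θ` identifies `N(m) / ⟨m⟩` with `Fi₂₄`; the extension does not split. -/
structure Th3 (m : G) (θ : normalizer (zpowers m : Set G) →* Fi24) : Prop where
  surj : Function.Surjective θ
  ker : ∀ g, θ g = 1 ↔ (g : G) ∈ zpowers m
  der : ∀ g, θ g ∈ commutator Fi24 ↔ Commute (g : G) m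
  top : ∀ K : Subgroup _, K.map θ = ⊤ → K = ⊤

omit [Finite G] in
theorem mem_cent_zpowers {g : G} : g ∈ centralizer (zpowers m : Set G) ↔ Commute g m :=
  ⟨fun h => (h m (mem_zpowers m)).symm, fun h => by
    rintro _ ⟨k, rfl⟩; exact (h.zpow_right k).symm⟩

theorem conj_cases3 (hm : orderOf m = 3) {g : G} (hg : g ∈ normalizer (zpowers m : Set G)) :
    g * m * g⁻¹ = m ∨ g * m * g⁻¹ = m⁻¹ := by
  have h3 : m * m * m = 1 := by rw [← pow_three', ← hm, pow_orderOf_eq_one]
  rcases Mont.mem_zpowers_three hm ((mem_normalizer_iff.1 hg m).1 (mem_zpowers m)) with e | e | e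
  · rw [conj_eq_one_iff] at e; rw [e, orderOf_one] at hm; omega
  · exact Or.inl e
  · exact Or.inr (e.trans (eq_inv_of_mul_eq_one_left h3))

theorem exists_th3 (h : If0 z Q π ψ) (hm : orderOf m = 3) (hz : Commute m z) {s a u : G}
    (hs : s ∈ Q) (hB : s ∈ cB z) (hsz : s ≠ z) (hms : Commute m s) (ha : a ∈ Q) (hA : a ∈ cA ψ)
    (hma : Commute m a) (hu : u * m * u⁻¹ = m⁻¹) : ∃ θ, Th3 m θ := by
  obtain ⟨_, hM⟩ := h.mon.isOfMonsterType h.nwc
  have hle := LES.LX_le_centralizer h.mon.lx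
  have hsQ : ∃ hsc : s ∈ centralizer ({z} : Set G),
      (⟨s, hsc⟩ : centralizer ({z} : Set G)) ∈ Q.subgroupOf (centralizer ({z} : Set G)) :=
    ⟨hle hs, hs⟩
  have hY : zpowers m ≤ centralizer ({z, s} : Set G) :=
    zpowers_le.2 (Mont.mem_cent2.2 ⟨hz, hms⟩)
  have hY3 : Nat.card (zpowers m) = 3 := by rw [Nat.card_zpowers, hm]
  have hYC : zpowers m ≤ centralizer (zpowers m : Set G) :=
    zpowers_le.2 (mem_cent_zpowers.2 (Commute.refl m))
  have hKN := centralizer_le_normalizer (zpowers m : Set G)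
  have hn : ((zpowers m).subgroupOf (centralizer (zpowers m : Set G))).Normal :=
    normal_subgroupOf_of_le_normalizer hKN
  have hc : ∃ P : Sylow 3 (centralizer ({z, s} : Set G)),
      (zpowers m).subgroupOf (centralizer ({z, s} : Set G)) ≤
      (center (P : Subgroup (centralizer ({z, s} : Set G)))).map (Subgroup.subtype _) := by
    by_contra hnc
    push Not at hnc
    obtain ⟨θ, t⟩ := Mont.exists_th' hM hsQ hB hsz
    rw [subgroupOf_map_subtype, inf_eq_left.mpr hle] at t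
    obtain ⟨b, h1, h2, h3⟩ := t.three_n hY hY3 hnc
    have q := Mont.oq_mk Nat.prime_three (by norm_num) h1 h2
    obtain ⟨π', φ, d, hx⟩ := t.std b _ 3 Nat.prime_three (by norm_num)
      (Subtype.ext (by rw [SubgroupClass.coe_pow, ← h1, pow_orderOf_eq_one]; rfl)) h3
    obtain ⟨v, h4, h5⟩ := (Mont.mem_inf_iff d q hx).1 ⟨ha, mem_cent_zpowers.2 hma.symm⟩
    rcases c3_cases h4 with e | ⟨w, e, e'⟩
    · exact h.disj hA ((Mont.isConj_iff_ovr d h.nwc ha (h.ne_z hA)).2 ⟨v, e, h5⟩)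
    have h6 := h5.trans d.z_sq ((Mont.eqv_cls d).2 e)
    rcases e' with e' | e'
    · have : w = 0 := Subtype.ext (sqNorm_eq_zero e')
      rw [this] at h6
      rcases LES.eqv_one_iff.1 (h6.trans d.z_sq ((d.triv 0).2 ⟨0, by simp⟩)) with e | e
      exacts [h.ne_one_A hA e, h.ne_z hA e]
    · have := (d.sq_iff h6).1 (h.mul_self_A hA)
      omega
  obtain ⟨⟨hp, -⟩, ⟨e0⟩, E, -, hZ, -⟩ := S5461.result z _ hM s hsQ hB hsz _ hY hY3 hc
  set ν := QuotientGroup.mk' ((zpowers m).subgroupOf (normalizer (zpowers m : Set G))) with hν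
  have kν : ∀ g, ν g = 1 ↔ (g : G) ∈ zpowers m := fun g => QuotientGroup.eq_one_iff g
  have hk : (zpowers m).subgroupOf (centralizer (zpowers m : Set G)) = (ν.comp (inclusion hKN)).ker := by
    ext c; rw [MonoidHom.mem_ker, MonoidHom.comp_apply, kν]; rfl
  have hL : ∀ g, ν g ∈ (ν.comp (inclusion hKN)).range ↔ Commute (g : G) m := fun g => by
    constructor
    · rintro ⟨c, hc⟩
      have : ((inclusion hKN c)⁻¹ * g : normalizer (zpowers m : Set G)).1 ∈ zpowers m :=
        (kν _).1 (by rw [map_mul, map_inv, ← hc]; simp)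
      have h2 := mul_mem c.2 (hYC this)
      exact mem_cent_zpowers.1 (by simpa using h2)
    · exact fun hg => ⟨⟨g, mem_cent_zpowers.2 hg⟩, rfl⟩
  have h2 : (ν.comp (inclusion hKN)).range.index = 2 := by
    rw [MonoidHom.range_comp, inclusion_range, index_map_eq _ (QuotientGroup.mk'_surjective _) (by
      rw [QuotientGroup.ker_mk']; exact comap_mono hYC)]
    refine Mont.relIndex_eq_of_conj Nat.prime_three hm fun y hy hy1 => ?_
    rcases Mont.mem_zpowers_three hm hy with rfl | rfl | rfl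
    · exact absurd rfl hy1
    · exact IsConj.refl _
    · refine isConj_iff.2 ⟨u, hu.trans (eq_inv_of_mul_eq_one_left ?_).symm⟩
      rw [← pow_three', ← hm, pow_orderOf_eq_one]
  have hC : centralizer ((ν.comp (inclusion hKN)).range : Set _) ≤ (ν.comp (inclusion hKN)).range := by
    intro c hc
    by_contra hcL
    have : c ∈ center _ := mem_center_iff.2 fun g => by
      by_cases hg : g ∈ (ν.comp (inclusion hKN)).range
      · exact hc g hg
      · have h3 := hc _ ((mul_mem_iff_of_index_two h2).2 (iff_of_false hg hcL))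
        rwa [← mul_assoc, mul_left_inj] at h3
    rw [hZ, mem_bot] at this
    exact hcL (this ▸ one_mem _)
  obtain ⟨f, hf⟩ := TT.exists_equiv_fi24_of_index_two _ h2
    (((QuotientGroup.quotientMulEquivOfEq hk).trans
      (QuotientGroup.quotientKerEquivRange _)).symm.trans e0) hC
  have hsurj : Function.Surjective (f.toMonoidHom.comp ν) :=
    f.surjective.comp (QuotientGroup.mk'_surjective _)
  have hker : ∀ g, f.toMonoidHom.comp ν g = 1 ↔ (g : G) ∈ zpowers m := fun g =>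
    (map_eq_one_iff f f.injective).trans (kν g)
  refine ⟨f.toMonoidHom.comp ν, hsurj, hker, fun g => ?_, fun K hK => ?_⟩
  · rw [← hL]
    refine ⟨fun hg => ?_, fun hg => ?_⟩
    · obtain ⟨y, hy⟩ := (((QuotientGroup.quotientMulEquivOfEq hk).trans
        (QuotientGroup.quotientKerEquivRange _)).symm.trans e0).surjective ⟨_, hg⟩
      have := f.injective ((hf y).trans (congrArg Subtype.val hy))
      exact this ▸ y.2
    · exact (hf ⟨_, hg⟩ : f (ν g) = _) ▸ Subtype.coe_prop _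
  have dec : ∀ g : normalizer (zpowers m : Set G), ∃ k ∈ K, (k : G)⁻¹ * g ∈ zpowers m := fun g => by
    obtain ⟨k, hk, e⟩ : f.toMonoidHom.comp ν g ∈ K.map (f.toMonoidHom.comp ν) := hK ▸ mem_top _
    exact ⟨k, hk, (hker (k⁻¹ * g)).1 (by rw [map_mul, map_inv, e, inv_mul_cancel])⟩
  have hcomm : commutator (centralizer (zpowers m : Set G)) ≤ K.comap (inclusion hKN) := by
    refine commutator_le.2 fun c _ c' _ => ?_
    obtain ⟨k, hk, e⟩ := dec (inclusion hKN c)
    obtain ⟨k', hk', e'⟩ := dec (inclusion hKN c')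
    have : inclusion hKN ⁅c, c'⁆ = ⁅k, k'⁆ := by
      apply Subtype.ext
      obtain ⟨y, hy, e1⟩ : ∃ y ∈ zpowers m, (k : G) = c * y :=
        ⟨_, inv_mem e, by simp [(c.2 _ (inv_mem e)).symm, mul_assoc]⟩
      obtain ⟨y', hy', e2⟩ : ∃ y ∈ zpowers m, (k' : G) = c' * y :=
        ⟨_, inv_mem e', by simp [(c'.2 _ (inv_mem e')).symm, mul_assoc]⟩
      have a1 : Commute y c' := c'.2 y hy
      have a2 : Commute y' c := c.2 y' hy'
      have a3 : Commute y c := c.2 y hy
      have a4 : Commute y y' := hYC hy' y hy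
      change (c : G) * c' * (c : G)⁻¹ * (c' : G)⁻¹ = k * k' * (k : G)⁻¹ * (k' : G)⁻¹
      rw [e1, e2]
      calc (c : G) * c' * (c : G)⁻¹ * (c' : G)⁻¹ = c * (c' * (y' * (c : G)⁻¹ * y'⁻¹)) * (c' : G)⁻¹ := by
            rw [a2.inv_right.mul_inv_cancel]; group
        _ = c * (y * (c' * y') * y⁻¹) * (c : G)⁻¹ * y'⁻¹ * (c' : G)⁻¹ := by
            rw [(a1.mul_right a4).mul_inv_cancel]; group
        _ = _ := by group
    rw [mem_comap, this]
    exact mul_mem (mul_mem (mul_mem hk hk') (inv_mem hk)) (inv_mem hk')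
  rw [hp.commutator_eq_top] at hcomm
  refine eq_top_iff.2 fun g _ => ?_
  obtain ⟨k, hk, e⟩ := dec g
  have := mul_mem hk (hcomm (mem_top ⟨_, hYC e⟩))
  convert this using 1
  exact Subtype.ext (mul_inv_cancel_left _ _).symm

omit [Finite G] in
theorem Th3.of_conj (α : MulAut G) {θ : normalizer (zpowers (α m) : Set G) →* Fi24}
    (t : Th3 (α m) θ) : ∃ θ', Th3 m θ' := by
  have e1 : (zpowers m).map α.toMonoidHom = zpowers (α m) := MonoidHom.map_zpowers _ _
  let e : normalizer (zpowers m : Set G) ≃* normalizer (zpowers (α m) : Set G) :=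
    (α.subgroupMap _).trans (MulEquiv.subgroupCongr (e1 ▸ map_equiv_normalizer_eq _ α))
  have he : ∀ g, (e g : G) = α g := fun _ => rfl
  refine ⟨θ.comp e.toMonoidHom, t.surj.comp e.surjective, fun g => (t.ker (e g)).trans ?_,
    fun g => (t.der (e g)).trans ?_, fun K hK => ?_⟩
  · rw [he, ← e1]; exact mem_map_iff_mem α.injective
  · rw [he]; exact ⟨fun h => h.of_map α.injective, fun h => h.map α⟩
  · rw [← map_map] at hK
    exact map_injective (f := e.toMonoidHom) e.injective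
      ((t.top _ hK).trans (map_top_of_surjective _ e.surjective).symm)

theorem ncard_cls_mul {H : Type*} [Group H] [Finite H] (x : H) :
    {y | IsConj x y}.ncard * Nat.card (centralizer ({x} : Set H)) = Nat.card H :=
  Inv.Count.card_isConj_mul_card_centralizer x

theorem card_cent_of_isConj {H : Type*} [Group H] [Finite H] {a b : H} (h : IsConj a b) :
    Nat.card (centralizer ({a} : Set H)) = Nat.card (centralizer ({b} : Set H)) := by
  have e : {x | IsConj a x} = {x | IsConj b x} := Set.ext fun x =>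
    ⟨fun k => h.symm.trans k, fun k => h.trans k⟩
  have h1 := ncard_cls_mul a
  rw [e, ← ncard_cls_mul b] at h1
  exact Nat.eq_of_mul_eq_mul_left ((Set.ncard_pos (Set.toFinite _)).2 ⟨b, IsConj.refl b⟩) h1

theorem card_cent_fi24D {d : Fi24} (hd : d ∈ TT.fi24D) :
    Nat.card (centralizer ({d} : Set Fi24)) = 8178940946586009600 := by
  have := TT.fi24_finite
  have e : {x | IsConj d x} = TT.fi24D := Set.ext fun x =>
    ⟨fun k => IsConj.trans hd k, fun k => IsConj.trans (IsConj.symm hd) k⟩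
  have h1 := ncard_cls_mul d
  rw [e, TT.fi24D_ncard, TT.fi24D_geom.card TT.fi24D_class.2.2 TT.fi24_center] at h1
  omega

theorem dvd_card_cent_fi24D {a b : Fi24} (ha : a ∈ TT.fi24D) (hb : b ∈ TT.loc TT.fi24D a) :
    3 ^ 9 ∣ Nat.card (centralizer ({a * b} : Set Fi24)) := by
  have := TT.fi24_finite
  obtain ⟨-, ⟨e⟩⟩ := TT.fi24_s24.pairK_equiv ha hb
  have h1 : commutator Fi24 ⊓ centralizer {a, b} ≤ centralizer ({a * b} : Set Fi24) := fun x hx =>
    mem_centralizer_singleton_iff.2 ((Commute.mul_left (hx.2 a (by simp)) (hx.2 b (by simp))).symm)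
  refine Dvd.dvd.trans ?_ ((card_quotient_dvd_card (center _)).trans (card_dvd_of_le h1))
  rw [Nat.card_congr e.toEquiv, Spor.FiC.M22.card]
  norm_num

theorem mem_A_of_dvd (h : If0 z Q π ψ) {t : G} (ht : orderOf t = 2) {n : ℕ}
    (hn : n ∣ Nat.card (centralizer ({t} : Set G))) (h' : ¬ n ∣ 2 ^ 25 * 4157776806543360000) :
    t ∈ cA ψ := (h.two_classes ht).resolve_right fun hB =>
  h' (by rwa [← card_cent_of_isConj hB, h.card_C] at hn)

namespace Th3
variable {θ : normalizer (zpowers m : Set G) →* Fi24} (t : Th3 m θ) (hm : orderOf m = 3)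
include hm

theorem eq_one_of_inv {g y : G} (hg : g * m * g⁻¹ = m⁻¹) (hy : y ∈ zpowers m) (hc : Commute g y) :
    y = 1 := by
  obtain ⟨k, rfl⟩ := hy
  have h1 : g * m ^ k * g⁻¹ = (m ^ k)⁻¹ := by rw [← conj_zpow, hg, inv_zpow]
  rw [hc.mul_inv_cancel] at h1
  have h2 : (m ^ k) ^ 2 = 1 := by rw [pow_two]; exact mul_eq_one_iff_eq_inv.2 h1
  have h3 : (m ^ k) ^ 3 = 1 := by
    rw [← zpow_natCast, zpow_comm, zpow_natCast, ← hm, pow_orderOf_eq_one, one_zpow]
  rwa [pow_succ, h2, one_mul] at h3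

/-- The coset of `⟨m⟩` of an element inverting `m` is a class under `⟨m⟩`. -/
theorem exists_conj {g y : G} (hg : g * m * g⁻¹ = m⁻¹) (hy : y ∈ zpowers m) :
    ∃ u ∈ zpowers m, u * g * u⁻¹ = g * y := by
  obtain ⟨k, rfl⟩ := hy
  refine ⟨m ^ k, zpow_mem (mem_zpowers m) k, ?_⟩
  have h1 : g * (m ^ k)⁻¹ * g⁻¹ = m ^ k := by
    rw [← conj_inv, ← conj_zpow, hg, inv_zpow, inv_inv]
  have h3 : (m ^ k) ^ 3 = 1 := by
    rw [← zpow_natCast, zpow_comm, zpow_natCast, ← hm, pow_orderOf_eq_one, one_zpow]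
  calc m ^ k * g * (m ^ k)⁻¹ = g * (m ^ k)⁻¹ * g⁻¹ * g * (m ^ k)⁻¹ := by rw [h1]
    _ = g * m ^ k * ((m ^ k) ^ 3)⁻¹ := by group
    _ = _ := by rw [h3]; simp

include t

theorem inv_of_notMem {g : normalizer (zpowers m : Set G)} (hg : θ g ∉ commutator Fi24) :
    (g : G) * m * (g : G)⁻¹ = m⁻¹ :=
  (conj_cases3 hm g.2).resolve_left fun e => hg ((t.der g).2 (mul_inv_eq_iff_eq_mul.1 e))

theorem lift_comm {g : normalizer (zpowers m : Set G)} (hg : θ g ∉ commutator Fi24) {c : Fi24}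
    (hc : Commute c (θ g)) : ∃ k, θ k = c ∧ Commute (k : G) g := by
  obtain ⟨k, rfl⟩ := t.surj c
  have h1 : ((g⁻¹ * (k * g * k⁻¹) : normalizer (zpowers m : Set G)) : G) ∈ zpowers m :=
    (t.ker _).1 (by simp only [map_mul, map_inv, hc.mul_inv_cancel, inv_mul_cancel])
  obtain ⟨u, hu, e⟩ := exists_conj hm (t.inv_of_notMem hm hg) h1
  refine ⟨⟨u, le_normalizer hu⟩⁻¹ * k, ?_, ?_⟩
  · rw [map_mul, map_inv, (t.ker _).2 hu, inv_one, one_mul]
  · change u⁻¹ * k * g = g * (u⁻¹ * k)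
    simp only [coe_mul, coe_inv, mul_inv_cancel_left] at e
    calc u⁻¹ * k * g = u⁻¹ * (k * g * (k : G)⁻¹) * k := by group
      _ = _ := by rw [← e]; group

theorem notMem {g : normalizer (zpowers m : Set G)} (hg : θ g ∈ TT.fi24D) :
    θ g ∉ commutator Fi24 := have := TT.fi24_finite; TT.fi24_s24.notMem hg

theorem order_two {g : normalizer (zpowers m : Set G)} (hg : θ g ∈ TT.fi24D) :
    orderOf (g : G) = 2 := by
  have h2 := TT.fi24D_class.1.1 _ hg
  have : Fact (Nat.Prime 2) := ⟨Nat.prime_two⟩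
  refine orderOf_eq_prime ?_ fun e => ?_
  · refine eq_one_of_inv hm (t.inv_of_notMem hm (t.notMem hm hg)) ((t.ker (g ^ 2)).1 ?_)
      (Commute.self_pow _ 2)
    rw [map_pow, ← h2, pow_orderOf_eq_one]
  · rw [show g = 1 from Subtype.ext e, map_one, orderOf_one] at h2; omega

theorem mem_A (h : If0 z Q π ψ) {g : normalizer (zpowers m : Set G)} (hg : θ g ∈ TT.fi24D) :
    (g : G) ∈ cA ψ := by
  refine mem_A_of_dvd h (t.order_two hm hg) (n := 17) ?_ (by norm_num)
  have h1 : centralizer ({θ g} : Set Fi24) ≤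
      ((centralizer ({(g : G)} : Set G)).subgroupOf _).map θ := fun c hc => by
    obtain ⟨k, rfl, hk⟩ := t.lift_comm hm (t.notMem hm hg) (mem_centralizer_singleton_iff.1 hc)
    exact ⟨k, mem_centralizer_singleton_iff.2 hk, rfl⟩
  refine Dvd.dvd.trans ?_ ((card_dvd_of_le h1).trans ((card_map_dvd _ _).trans
    (card_comap_dvd_of_injective _ _ Subtype.coe_injective)))
  rw [card_cent_fi24D hg]; norm_num

theorem mul_mem_A (h : If0 z Q π ψ) {g k : normalizer (zpowers m : Set G)} (hg : θ g ∈ TT.fi24D)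
    (hk : θ k ∈ TT.fi24D) (hne : θ g ≠ θ k) (hc : Commute (g : G) k) : (g : G) * k ∈ cA ψ := by
  have := TT.fi24_finite
  have : Fact (Nat.Prime 2) := ⟨Nat.prime_two⟩
  have g2 := h.mul_self_A (t.mem_A hm h hg)
  have k2 := h.mul_self_A (t.mem_A hm h hk)
  have hc' : Commute g k := Subtype.ext hc
  have s2 : ((g : G) * k) ^ 2 = 1 := by rw [hc.mul_pow, pow_two, pow_two, g2, k2, one_mul]
  have hm' : Commute ((g : G) * k) m :=
    (t.der (g * k)).1 (map_mul θ g k ▸ TT.fi24_s24.mul_mem' hg hk)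
  refine mem_A_of_dvd h (orderOf_eq_prime s2 fun e => hne ?_) (n := 3 ^ 10) ?_ (by norm_num)
  · rw [show g = k from Subtype.ext (mul_right_cancel (e.trans k2.symm))]
  have h1 : ((centralizer ({θ g * θ k} : Set Fi24)).comap θ).map (Subgroup.subtype _) ≤
      centralizer ({(g : G) * k} : Set G) := by
    rintro _ ⟨c, hc1, rfl⟩
    have a1 : Commute (θ c) (θ (g * k)) := map_mul θ g k ▸ mem_centralizer_singleton_iff.1 hc1
    obtain ⟨j, hj⟩ : (((g * k)⁻¹ * (c * (g * k) * c⁻¹) : normalizer (zpowers m : Set G)) : G) ∈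
        zpowers m :=
      (t.ker _).1 (by rw [map_mul, map_mul, map_mul, map_inv, map_inv, a1.mul_inv_cancel, inv_mul_cancel])
    simp only [coe_mul, coe_inv] at hj
    have a2 : (c : G) * (g * k) * (c : G)⁻¹ = g * k * m ^ j := by rw [hj, mul_inv_cancel_left]
    have a3 : (m ^ j) ^ 2 = 1 := by
      have := congrArg (· ^ 2) a2
      simp only [conj_pow, (hm'.zpow_right j).mul_pow, s2] at this
      simpa using this.symm
    have a4 : (m ^ j) ^ 3 = 1 := by
      rw [← zpow_natCast, zpow_comm, zpow_natCast, ← hm, pow_orderOf_eq_one, one_zpow]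
    rw [pow_succ, a3, one_mul] at a4
    rw [a4, mul_one] at a2
    exact mem_centralizer_singleton_iff.2 (mul_inv_eq_iff_eq_mul.1 a2)
  refine Dvd.dvd.trans ?_ (card_dvd_of_le h1)
  have b1 := ((centralizer ({θ g * θ k} : Set Fi24)).comap θ).card_mul_index
  have b2 := θ.ker.card_mul_index
  have b3 : Nat.card θ.ker = 3 := by
    rw [show θ.ker = (zpowers m).subgroupOf _ from Subgroup.ext fun c => t.ker c,
      Nat.card_congr (subgroupOfEquivOfLe le_normalizer).toEquiv, Nat.card_zpowers, hm]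
  rw [b3, index_ker, MonoidHom.range_eq_top.2 t.surj, card_top,
    ← (centralizer ({θ g * θ k} : Set Fi24)).card_mul_index, ← b1, index_comap_of_surjective _ t.surj,
    ← mul_assoc] at b2
  rw [card_map_of_injective Subtype.coe_injective,
    ← Nat.eq_of_mul_eq_mul_right (Nat.pos_of_ne_zero index_ne_zero_of_finite) b2, pow_succ']
  exact Nat.mul_dvd_mul_left 3 (dvd_card_cent_fi24D hg ⟨hk, hne.symm, hc'.map θ⟩)

theorem mem_D (h : If0 z Q π ψ) {g : normalizer (zpowers m : Set G)} (hA : (g : G) ∈ cA ψ)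
    (hi : (g : G) * m * g = m⁻¹) : θ g ∈ TT.fi24D := by
  have := TT.fi24_finite
  have hi' : (g : G) * m * (g : G)⁻¹ = m⁻¹ := by rw [h.inv_A hA, hi]
  have hn : θ g ∉ commutator Fi24 := fun e => by
    have := eq_one_of_inv hm hi' (mem_zpowers m) ((t.der g).1 e)
    rw [this, orderOf_one] at hm; omega
  have hg := TT.fi24D_class.2.2
  obtain ⟨r, hr, h7, h8⟩ := TT.fi24D_geom.exists_CL_of_sq (x := θ g) (hg ▸ mem_top _)
    (TT.SameOn.of_eq (by rw [← map_mul, show g * g = 1 from Subtype.ext (h.mul_self_A hA), map_one]))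
  have h9 := h8.eq hg TT.fi24_center
  have ev : ¬ Even r.length := fun he => hn (h9 ▸ F24.prod_mem_commutator24 r hr.mem he)
  match r, hr, h7, h9, ev with
  | [], _, _, _, ev => exact absurd (by simp) ev
  | [a], hr, _, h9, _ => exact (by simpa using h9 : θ g = a) ▸ hr.mem a (by simp)
  | [_, _], _, _, _, ev => exact absurd (by simp) ev
  | [_, _, _, _], _, _, _, ev => exact absurd (by decide : Even 4) ev
  | _ :: _ :: _ :: _ :: _ :: _, _, h7, _, _ => simp at h7; omega
  | [a, b, c], hr, _, h9, _ =>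
    exfalso
    obtain ⟨y₁, rfl⟩ := t.surj a
    have d1 := hr.mem (θ y₁) (by simp)
    obtain ⟨y₂, rfl, c2⟩ := t.lift_comm hm (t.notMem hm d1) (hr.comm b (by simp) _ (by simp))
    obtain ⟨y₃, rfl, c3⟩ := t.lift_comm hm (t.notMem hm d1) (hr.comm c (by simp) _ (by simp))
    have d2 := hr.mem (θ y₂) (by simp)
    have d3 := hr.mem (θ y₃) (by simp)
    have nd := hr.nodup
    simp only [List.nodup_cons, List.mem_cons, List.not_mem_nil, or_false, not_or] at nd
    have c23 : Commute (y₂ : G) y₃ := commutatorElement_eq_one_iff_commute.1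
      (eq_one_of_inv hm (t.inv_of_notMem hm (t.notMem hm d1)) ((t.ker ⁅y₂, y₃⁆).1 (by
        rw [map_commutatorElement]
        exact commutatorElement_eq_one_iff_commute.2 (hr.comm _ (by simp) _ (by simp))))
        (((c2.symm.mul_right c3.symm).mul_right c2.symm.inv_right).mul_right c3.symm.inv_right))
    refine h.no_pure (t.mem_A hm h d1) (t.mem_A hm h d2) (t.mem_A hm h d3)
      (t.mul_mem_A hm h d1 d2 nd.1.1 c2.symm) (t.mul_mem_A hm h d1 d3 nd.1.2 c3.symm)
      (t.mul_mem_A hm h d2 d3 nd.2.1 c23) ?_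
    obtain ⟨u, -, e⟩ := exists_conj hm hi' ((t.ker (g⁻¹ * (y₁ * y₂ * y₃))).1 (by
      rw [map_mul, map_inv, h9]; simp [mul_assoc]))
    simp only [coe_mul, coe_inv, mul_inv_cancel_left] at e
    exact e ▸ conj_mem_cA hA u

end Th3

end Cfsg.Agent.MonY
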